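import Mathlib

/-!
# The local criterion of flatness for a nilpotent ideal
-/

set_option autoImplicit false
universe u v w
open TensorProduct

namespace NilFlatLib

variable {A : Type u} [CommRing A] {I : Ideal A} {M : Type v} [AddCommGroup M] [Module A M]

theorem rTensor_quotient_injective [Module.Flat (A ⧸ I) ((A ⧸ I) ⊗[A] M)] {N P : Type w}
    [AddCommGroup N] [Module A N] [Module (A ⧸ I) N] [IsScalarTower A (A ⧸ I) N]
    [AddCommGroup P] [Module A P] [Module (A ⧸ I) P] [IsScalarTower A (A ⧸ I) P]
    (h : N →ₗ[A ⧸ I] P) (hh : Function.Injective h) :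
    Function.Injective ((h.restrictScalars A).rTensor M) := by
  let eN := AlgebraTensorModule.cancelBaseChange A (A ⧸ I) (A ⧸ I) N M
  let eP := AlgebraTensorModule.cancelBaseChange A (A ⧸ I) (A ⧸ I) P M
  have hc : ∀ z, eP (h.rTensor _ z) = (h.restrictScalars A).rTensor M (eN z) := by
    intro z
    induction z using TensorProduct.induction_on with
    | zero => simp
    | add a b ha hb => simp only [map_add, ha, hb]
    | tmul n t =>
      induction t using TensorProduct.induction_on with
      | zero => simp
      | add a b ha hb => simp only [tmul_add, map_add, ha, hb]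
      | tmul c m => simp [eN, eP]
  have hfun : ((h.restrictScalars A).rTensor M) = fun z => eP (h.rTensor _ (eN.symm z)) :=
    funext fun z => by rw [hc, eN.apply_symm_apply]
  rw [show (⇑((h.restrictScalars A).rTensor M)) = fun z => eP (h.rTensor _ (eN.symm z)) from hfun]
  exact eP.injective.comp ((Module.Flat.rTensor_preserves_injective_linearMap h hh).comp eN.symm.injective)

theorem rTensor_finsupp_injective (hT : Function.Injective (LinearMap.rTensor M (Submodule.subtype I)))
    (ι : Type w) : Function.Injective ((Finsupp.mapRange.linearMap (α := ι) I.subtype).rTensor M) := by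
  classical
  let eI := TensorProduct.finsuppLeft A A I M ι
  let eA := TensorProduct.finsuppLeft A A A M ι
  have hc : ∀ z, eA ((Finsupp.mapRange.linearMap (α := ι) I.subtype).rTensor M z) =
      Finsupp.mapRange.linearMap (α := ι) (LinearMap.rTensor M I.subtype) (eI z) := by
    intro z
    induction z using TensorProduct.induction_on with
    | zero => simp
    | add a b ha hb => simp only [map_add, ha, hb]
    | tmul n m => ext i; simp [eI, eA, TensorProduct.finsuppLeft_apply_tmul_apply]
  intro z z' h
  apply eI.injective
  have := congrArg eA h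
  rw [hc, hc] at this
  exact Finsupp.mapRange_injective _ (map_zero _) hT this

variable [Module.Flat (A ⧸ I) ((A ⧸ I) ⊗[A] M)]

/-- Submodules containing the kernel of the reduction are pure for `M`. -/
theorem rTensor_subtype_injective_of_reduction {F Fq N : Type w} [AddCommGroup F] [Module A F]
    [AddCommGroup Fq] [Module A Fq] [Module (A ⧸ I) Fq] [IsScalarTower A (A ⧸ I) Fq] [AddCommGroup N] [Module A N]
    (g : N →ₗ[A] F) (q : F →ₗ[A] Fq) (hgq : Function.Exact g q) (hg : Function.Injective (g.rTensor M))
    (K : Submodule A F) (hgK : LinearMap.range g ≤ K) :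
    Function.Injective (K.subtype.rTensor M) := by
  obtain ⟨K', hK'⟩ : ∃ K' : Submodule (A ⧸ I) Fq, K'.restrictScalars A = K.map q :=
    ⟨Submodule.span (A ⧸ I) (K.map q : Set Fq), by
      rw [Submodule.restrictScalars_span A (A ⧸ I) Ideal.Quotient.mk_surjective, Submodule.span_eq]⟩
  let p : K →ₗ[A] K' := (q ∘ₗ K.subtype).codRestrict (K'.restrictScalars A) fun x =>
    hK'.ge (Submodule.mem_map_of_mem x.2)
  have hp : Function.Surjective p := fun y => by
    obtain ⟨x, hx, hxy⟩ := hK'.le y.2
    exact ⟨⟨x, hx⟩, Subtype.ext hxy⟩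
  let j : N →ₗ[A] K := g.codRestrict K fun n => hgK ⟨n, rfl⟩
  have hex : Function.Exact j p := fun x => by
    constructor
    · intro hx
      obtain ⟨n, hn⟩ := (hgq x).mp (congrArg Subtype.val hx)
      exact ⟨n, Subtype.ext hn⟩
    · rintro ⟨n, rfl⟩
      exact Subtype.ext (hgq.apply_apply_eq_zero n)
  refine (injective_iff_map_eq_zero _).mpr fun z hz => ?_
  have h1 : p.rTensor M z = 0 := by
    refine rTensor_quotient_injective (M := M) K'.subtype K'.injective_subtype ?_
    rw [map_zero, ← LinearMap.rTensor_comp_apply,
      show K'.subtype.restrictScalars A ∘ₗ p = q ∘ₗ K.subtype from LinearMap.ext fun _ => rfl,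
      LinearMap.rTensor_comp_apply, hz, map_zero]
  obtain ⟨w, rfl⟩ := (rTensor_exact M hex hp z).mp h1
  suffices w = 0 by rw [this, map_zero]
  refine hg ?_
  rw [map_zero, ← hz, ← LinearMap.rTensor_comp_apply]
  rfl

/-- Submodules of a free module containing `I` times it are pure for `M`. -/
theorem rTensor_subtype_injective_free (hT : Function.Injective (LinearMap.rTensor M (Submodule.subtype I)))
    {ι : Type u} (K : Submodule A (ι →₀ A)) (hK : ∀ f : ι →₀ A, (∀ i, f i ∈ I) → f ∈ K) :
    Function.Injective (K.subtype.rTensor M) := by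
  refine rTensor_subtype_injective_of_reduction (I := I) (Finsupp.mapRange.linearMap (α := ι) I.subtype)
    (Finsupp.mapRange.linearMap (Algebra.linearMap A (A ⧸ I))) ?_ (rTensor_finsupp_injective hT ι) K ?_
  · intro f
    constructor
    · intro hf
      have hf' : ∀ i, f i ∈ I := fun i => Ideal.Quotient.eq_zero_iff_mem.mp (DFunLike.congr_fun hf i)
      exact ⟨Finsupp.onFinset f.support (fun i => (⟨f i, hf' i⟩ : I))
        (fun i hi => Finsupp.mem_support_iff.mpr fun h0 => hi (Subtype.ext h0)), Finsupp.ext fun i => rfl⟩
    · rintro ⟨g, rfl⟩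
      exact Finsupp.ext fun i => Ideal.Quotient.eq_zero_iff_mem.mpr (g i).2
  · rintro _ ⟨g, rfl⟩
    exact hK _ fun i => (g i).2

omit [Module.Flat (A ⧸ I) ((A ⧸ I) ⊗[A] M)] in
/-- Purity descends along a surjection. -/
theorem rTensor_injective_of_pullback {F P Q : Type w} [AddCommGroup F] [Module A F] [AddCommGroup P] [Module A P]
    [AddCommGroup Q] [Module A Q] (f : Q →ₗ[A] P) (hf : Function.Injective f) (π : F →ₗ[A] P)
    (hπ : Function.Surjective π) (hK : Function.Injective (((LinearMap.range f).comap π).subtype.rTensor M)) :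
    Function.Injective (f.rTensor M) := by
  let K : Submodule A F := (LinearMap.range f).comap π
  let e := LinearEquiv.ofInjective f hf
  let p : K →ₗ[A] Q := e.symm.toLinearMap ∘ₗ (π.restrict (p := K) (q := LinearMap.range f) fun x hx => hx)
  have hfp : ∀ x : K, f (p x) = π x := fun x => congrArg Subtype.val (e.apply_symm_apply ⟨π x, x.2⟩)
  have hp : Function.Surjective p := fun y => by
    obtain ⟨x, hx⟩ := hπ (f y)
    exact ⟨⟨x, ⟨y, hx.symm⟩⟩, hf ((hfp _).trans hx)⟩
  let i : LinearMap.ker π →ₗ[A] K := Submodule.inclusion fun x hx => ⟨0, (map_zero f).trans (LinearMap.mem_ker.mp hx).symm⟩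
  refine (injective_iff_map_eq_zero _).mpr fun z hz => ?_
  obtain ⟨w, rfl⟩ := LinearMap.rTensor_surjective M hp z
  rw [← LinearMap.rTensor_comp_apply, show f ∘ₗ p = π ∘ₗ K.subtype from LinearMap.ext hfp,
    LinearMap.rTensor_comp_apply] at hz
  obtain ⟨t, ht⟩ := (rTensor_exact M (LinearMap.exact_subtype_ker_map π) hπ _).mp hz
  have hw : i.rTensor M t = w := hK (by
    rw [← LinearMap.rTensor_comp_apply]; exact ht)
  rw [← hw, ← LinearMap.rTensor_comp_apply,
    show p ∘ₗ i = 0 from LinearMap.ext fun x => hf (by
      show f (p (i x)) = f 0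
      rw [hfp, map_zero]
      exact x.2)]
  simp

/-- Submodules containing `I` times the module are pure for `M`. -/
theorem rTensor_inclusion_injective (hT : Function.Injective (LinearMap.rTensor M (Submodule.subtype I)))
    {P Q : Type u} [AddCommGroup P] [Module A P] [AddCommGroup Q] [Module A Q] (f : Q →ₗ[A] P)
    (hf : Function.Injective f) (hIP : ∀ a ∈ I, ∀ x : P, a • x ∈ LinearMap.range f) :
    Function.Injective (f.rTensor M) := by
  refine rTensor_injective_of_pullback f hf (Finsupp.linearCombination A (id : P → P))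
    (fun x => ⟨Finsupp.single x 1, by simp⟩) (rTensor_subtype_injective_free hT _ fun g hg => ?_)
  show Finsupp.linearCombination A (id : P → P) g ∈ LinearMap.range f
  rw [Finsupp.linearCombination_apply]
  exact Submodule.sum_mem _ fun x _ => hIP _ (hg x) x

/-- Flatness from flatness modulo a nilpotent ideal and injectivity of `I ⊗ M → M`. -/
theorem flat_of_isNilpotent (hI : IsNilpotent I)
    (hT : Function.Injective (LinearMap.rTensor M (Submodule.subtype I))) : Module.Flat A M := by
  obtain ⟨n, hn⟩ := hI
  have key : ∀ j, ∀ J : Ideal A, I ^ j ≤ J → Function.Injective (LinearMap.rTensor M (Submodule.subtype J)) := by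
    intro j
    induction j with
    | zero =>
      intro J hJ
      rw [pow_zero, Ideal.one_eq_top, top_le_iff] at hJ
      subst hJ
      exact (LinearEquiv.rTensor M (Submodule.topEquiv (R := A) (M := A))).injective
    | succ j ih =>
      intro J hJ
      let g : J →ₗ[A] ↥(J ⊔ I ^ j) := Submodule.inclusion le_sup_left
      have hg := rTensor_inclusion_injective hT g (Submodule.inclusion_injective _) fun a ha x => by
        rw [Submodule.range_inclusion]
        show a * (x : A) ∈ J
        obtain ⟨y, hy, z, hz, hyz⟩ := Submodule.mem_sup.mp x.2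
        rw [← hyz, mul_add]
        refine add_mem (Ideal.mul_mem_left _ _ hy) (hJ ?_)
        rw [pow_succ']
        exact Ideal.mul_mem_mul ha hz
      rw [show (Submodule.subtype J) = (J ⊔ I ^ j).subtype ∘ₗ g from LinearMap.ext fun _ => rfl,
        LinearMap.rTensor_comp]
      exact (ih _ le_sup_right).comp hg
  exact Module.Flat.iff_rTensor_injective'.mpr fun J => key n J (by rw [hn]; exact bot_le)

end NilFlatLib
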